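import Mathlib.Algebra.Homology.ShortComplex.Ab
import Mathlib.Algebra.Homology.HomologicalComplex
import Mathlib.Algebra.Homology.Additive
import Mathlib.Algebra.Homology.ShortComplex.HomologicalComplex
import Mathlib.CategoryTheory.Sites.LocallyBijective
import Mathlib.CategoryTheory.Sites.Limits
import Mathlib.CategoryTheory.Sites.Abelian
import Mathlib.CategoryTheory.Adjunction.Additive
import Mathlib.CategoryTheory.Abelian.FunctorCategory
import Mathlib.Algebra.Category.Grp.Abelian
import Mathlib.Algebra.Category.Grp.Limits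
import Mathlib.Algebra.Category.Grp.Colimits
import Mathlib.Algebra.Category.Grp.FilteredColimits

/-!
# Locally bijective maps on homology presheaves give isomorphisms of homology sheaves
-/

universe u

open CategoryTheory Limits Opposite

namespace Groth.Agent.Lib.Cosk28.LocalHomology

variable {C : Type u} [SmallCategory C] {J : GrothendieckTopology C} {ι : Type*} {c : ComplexShape ι}
  {K L : HomologicalComplex (Cᵒᵖ ⥤ AddCommGrpCat.{u}) c}

lemma homologyπ_app_surjective (j : ι) (W : Cᵒᵖ) :
    Function.Surjective ((K.homologyπ j).app W) :=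
  (AddCommGrpCat.epi_iff_surjective _).1 (inferInstanceAs
    (Epi (((evaluation Cᵒᵖ AddCommGrpCat.{u}).obj W).map (K.homologyπ j))))

lemma iCycles_app_injective (j : ι) (W : Cᵒᵖ) :
    Function.Injective ((K.iCycles j).app W) :=
  (AddCommGrpCat.mono_iff_injective _).1 (inferInstanceAs
    (Mono (((evaluation Cᵒᵖ AddCommGrpCat.{u}).obj W).map (K.iCycles j))))

lemma exists_cycle {j k : ι} (hk : c.next j = k) {W : Cᵒᵖ} (x : (K.X j).obj W)
    (hx : (K.d j k).app W x = 0) : ∃ z : (K.cycles j).obj W, (K.iCycles j).app W z = x := by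
  have h := (ShortComplex.exact_of_f_is_kernel
    (ShortComplex.mk (K.iCycles j) (K.d j k) (K.iCycles_d j k))
    (K.cyclesIsKernel j k hk)).map ((evaluation Cᵒᵖ AddCommGrpCat.{u}).obj W)
  rw [ShortComplex.ab_exact_iff] at h
  exact h x hx

lemma homologyπ_app_eq_zero {i j : ι} (hi : c.prev j = i) {W : Cᵒᵖ} (z : (K.cycles j).obj W)
    (hz : (K.homologyπ j).app W z = 0) :
    ∃ a : (K.X i).obj W, (K.d i j).app W a = (K.iCycles j).app W z := by
  have h := (ShortComplex.exact_of_g_is_cokernel
    (ShortComplex.mk (K.toCycles i j) (K.homologyπ j) (K.toCycles_comp_homologyπ i j))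
    (K.homologyIsCokernel i j hi)).map ((evaluation Cᵒᵖ AddCommGrpCat.{u}).obj W)
  rw [ShortComplex.ab_exact_iff] at h
  obtain ⟨a, ha⟩ := h z hz
  exact ⟨a, (ConcreteCategory.congr_hom (congr_app (K.toCycles_i i j) W) a).symm.trans
    (congrArg _ ha)⟩

lemma homologyπ_toCycles {i j : ι} {W : Cᵒᵖ} (a : (K.X i).obj W) :
    (K.homologyπ j).app W ((K.toCycles i j).app W a) = 0 := by
  have h := ConcreteCategory.congr_hom (congr_app (K.toCycles_comp_homologyπ i j) W) a
  exact h

variable (φ : K ⟶ L)

lemma isLocallyBijective {i j k : ι} (hi : c.prev j = i) (hk : c.next j = k)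
    (hmono : ∀ (W : C) (x : (K.X j).obj (op W)), (K.d j k).app (op W) x = 0 →
      ∀ y : (L.X i).obj (op W), (L.d i j).app (op W) y = (φ.f j).app (op W) x →
        ∃ R ∈ J W, ∀ ⦃V : C⦄ (g : V ⟶ W), Sieve.arrows R g →
          ∃ a : (K.X i).obj (op V), (K.d i j).app (op V) a = (K.X j).map g.op x)
    (hepi : ∀ (W : C) (y : (L.X j).obj (op W)), (L.d j k).app (op W) y = 0 →
        ∃ R ∈ J W, ∀ ⦃V : C⦄ (g : V ⟶ W), Sieve.arrows R g →
          ∃ (a : (K.X j).obj (op V)) (b : (L.X i).obj (op V)), (K.d j k).app (op V) a = 0 ∧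
            (φ.f j).app (op V) a + (L.d i j).app (op V) b = (L.X j).map g.op y) :
    Presheaf.IsLocallyInjective J (HomologicalComplex.homologyMap φ j) ∧
      Presheaf.IsLocallySurjective J (HomologicalComplex.homologyMap φ j) := by
  have hπ : ∀ (W : Cᵒᵖ) (z : (K.cycles j).obj W),
      (HomologicalComplex.homologyMap φ j).app W ((K.homologyπ j).app W z) =
        (L.homologyπ j).app W ((HomologicalComplex.cyclesMap φ j).app W z) := fun W z =>
    ConcreteCategory.congr_hom (congr_app (HomologicalComplex.homologyπ_naturality φ j) W) z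
  have hiC : ∀ (W : Cᵒᵖ) (z : (K.cycles j).obj W),
      (L.iCycles j).app W ((HomologicalComplex.cyclesMap φ j).app W z) =
        (φ.f j).app W ((K.iCycles j).app W z) := fun W z =>
    ConcreteCategory.congr_hom (congr_app (HomologicalComplex.cyclesMap_i φ j) W) z
  have hzero : ∀ {W : C} (h : (K.homology j).obj (op W)),
      (HomologicalComplex.homologyMap φ j).app (op W) h = 0 →
      ∃ R ∈ J W, ∀ ⦃V : C⦄ (g : V ⟶ W), Sieve.arrows R g → (K.homology j).map g.op h = 0 := by
    intro W h hh
    obtain ⟨z, rfl⟩ := homologyπ_app_surjective j (op W) h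
    rw [hπ] at hh
    obtain ⟨y, hy⟩ := homologyπ_app_eq_zero hi _ hh
    rw [hiC] at hy
    obtain ⟨R, hR, hR'⟩ := hmono W ((K.iCycles j).app (op W) z)
      (ConcreteCategory.congr_hom (congr_app (K.iCycles_d j k) (op W)) z) y hy
    refine ⟨R, hR, fun V g hg => ?_⟩
    obtain ⟨a, ha⟩ := hR' g hg
    rw [← NatTrans.naturality_apply]
    have : (K.cycles j).map g.op z = (K.toCycles i j).app (op V) a := by
      apply iCycles_app_injective j (op V)
      rw [NatTrans.naturality_apply, ← ha]
      exact (ConcreteCategory.congr_hom (congr_app (K.toCycles_i i j) (op V)) a).symm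
    rw [this]
    exact homologyπ_toCycles a
  refine ⟨⟨fun {W} h h' hh => ?_⟩, ⟨fun {W} h => ?_⟩⟩
  · obtain ⟨W⟩ := W
    obtain ⟨R, hR, hR'⟩ := hzero (h - h') (by rw [map_sub, hh, sub_self])
    refine J.superset_covering ?_ hR
    intro V g hg
    have := hR' g hg
    rw [map_sub, sub_eq_zero] at this
    exact this
  · obtain ⟨z, rfl⟩ := homologyπ_app_surjective j (op W) h
    obtain ⟨R, hR, hR'⟩ := hepi W ((L.iCycles j).app (op W) z)
      (ConcreteCategory.congr_hom (congr_app (L.iCycles_d j k) (op W)) z)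
    refine J.superset_covering ?_ hR
    intro V g hg
    obtain ⟨a, b, ha, hb⟩ := hR' g hg
    obtain ⟨za, hza⟩ := exists_cycle hk a ha
    refine ⟨(K.homologyπ j).app (op V) za, ?_⟩
    rw [hπ, ← NatTrans.naturality_apply]
    have : (HomologicalComplex.cyclesMap φ j).app (op V) za =
        (L.cycles j).map g.op z - (L.toCycles i j).app (op V) b := by
      apply iCycles_app_injective j (op V)
      rw [hiC, map_sub, NatTrans.naturality_apply, hza, ← hb, eq_sub_iff_add_eq]
      exact congrArg (_ + ·) (ConcreteCategory.congr_hom (congr_app (L.toCycles_i i j) (op V)) b)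
    rw [this, map_sub]
    erw [homologyπ_toCycles]
    exact sub_zero _

/-- Iso on homology sheaves from local bijectivity. -/
theorem isIso_homologyMap_sheafify {j : ι}
    (h : Presheaf.IsLocallyInjective J (HomologicalComplex.homologyMap φ j) ∧
      Presheaf.IsLocallySurjective J (HomologicalComplex.homologyMap φ j)) :
    IsIso (HomologicalComplex.homologyMap
      (((presheafToSheaf J AddCommGrpCat.{u}).mapHomologicalComplex c).map φ) j) := by
  let P := presheafToSheaf J AddCommGrpCat.{u}
  haveI : PreservesColimitsOfSize.{0, 0} P :=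
    (sheafificationAdjunction J AddCommGrpCat.{u}).leftAdjoint_preservesColimits
  haveI : P.PreservesHomology := Functor.preservesHomologyOfExact P
  have hφ : IsIso (P.map (HomologicalComplex.homologyMap φ j)) := by
    rw [← GrothendieckTopology.W_iff, GrothendieckTopology.W_iff_isLocallyBijective]
    exact h
  have e := ShortComplex.mapHomologyIso_hom_naturality
    ((HomologicalComplex.shortComplexFunctor (Cᵒᵖ ⥤ AddCommGrpCat.{u}) c j).map φ) P
  change IsIso (ShortComplex.homologyMap (P.mapShortComplex.map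
    ((HomologicalComplex.shortComplexFunctor (Cᵒᵖ ⥤ AddCommGrpCat.{u}) c j).map φ)))
  have hφ' : IsIso (P.map (ShortComplex.homologyMap
      ((HomologicalComplex.shortComplexFunctor (Cᵒᵖ ⥤ AddCommGrpCat.{u}) c j).map φ))) := hφ
  exact ((Iso.eq_comp_inv _).2 e).symm ▸
    @IsIso.comp_isIso _ _ _ _ _ _ _ (@IsIso.comp_isIso _ _ _ _ _ _ _ (Iso.isIso_hom _) hφ')
      (Iso.isIso_inv _)

end Groth.Agent.Lib.Cosk28.LocalHomology
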