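import Groth.Agent.Lib.Cosk28.LocalTriv
import Groth.Agent.Lib.Cosk28.LocalHomology
import Groth.Agent.Lib.Cosk.HEquiv
import Mathlib.AlgebraicTopology.SimplicialSet.FiniteProd

/-!
# Local trivial fibrations induce isomorphisms on homology sheaves of free chains
-/

universe u

open CategoryTheory Limits Opposite Simplicial AlgebraicTopology

namespace Groth.Agent.Lib.Cosk28.Chains

open LocalTriv

lemma freeMap_injective {α β : Type u} (f : α → β) (hf : Function.Injective f) :
    Function.Injective (FreeAbelianGroup.map f) := by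
  by_cases h : Nonempty α
  · exact Function.LeftInverse.injective (g := FreeAbelianGroup.map (Function.invFun f)) fun x => by
      rw [← FreeAbelianGroup.map_comp_apply, Function.invFun_comp hf]
      exact FreeAbelianGroup.map_id_apply x
  · haveI := not_nonempty_iff.mp h
    intro x y _
    induction x using FreeAbelianGroup.induction_on <;>
      induction y using FreeAbelianGroup.induction_on <;> try (exact isEmptyElim ‹α›)
    all_goals exact (Subsingleton.elim _ _)

/-- Free chains of a simplicial set. -/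
noncomputable abbrev CS (S : SSet.{u}) : ChainComplex AddCommGrpCat.{u} ℕ :=
  (alternatingFaceMapComplex AddCommGrpCat.{u}).obj
    (((SimplicialObject.whiskering (Type u) AddCommGrpCat.{u}).obj AddCommGrpCat.free).obj S)

/-- Pushforward of free chains. -/
noncomputable abbrev push {S T : SSet.{u}} (f : S ⟶ T) : CS S ⟶ CS T :=
  (alternatingFaceMapComplex AddCommGrpCat.{u}).map
    (((SimplicialObject.whiskering (Type u) AddCommGrpCat.{u}).obj AddCommGrpCat.free).map f)

lemma push_comp {S T U : SSet.{u}} (f : S ⟶ T) (g : T ⟶ U) (n : ℕ) (x : (CS S).X n) :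
    (push (f ≫ g)).f n x = (push g).f n ((push f).f n x) := by
  simp [push]

lemma push_injective {S T : SSet.{u}} (f : S ⟶ T) [Mono f] (n : ℕ) :
    Function.Injective ((push f).f n) :=
  freeMap_injective _ ((mono_iff_injective _).1
    (inferInstanceAs (Mono (f.app (op ⦋n⦌)))))

lemma exists_support {S : SSet.{u}} {n : ℕ} (x : (CS S).X n) :
    ∃ (A : S.Subcomplex), SSet.Finite A ∧ ∀ B : S.Subcomplex, A ≤ B →
      ∃ y : (CS B).X n, (push B.ι).f n y = x := by
  change FreeAbelianGroup (S.obj (op ⦋n⦌)) at x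
  induction x using FreeAbelianGroup.induction_on with
  | zero =>
    exact ⟨⨆ i : Fin 0, (⊤ : S.Subcomplex), (SSet.finite_iSup_iff _).2 fun i => i.elim0,
      fun B _ => ⟨0, map_zero _⟩⟩
  | of s =>
    exact ⟨SSet.Subcomplex.ofSimplex s, inferInstance, fun B hB =>
      ⟨FreeAbelianGroup.of (⟨s, hB _ (SSet.Subcomplex.mem_ofSimplex_obj s)⟩ : B.obj (op ⦋n⦌)), rfl⟩⟩
  | neg s hs =>
    obtain ⟨A, hA, h⟩ := hs
    refine ⟨A, hA, fun B hB => ?_⟩
    obtain ⟨y, hy⟩ := h B hB
    exact ⟨-y, (map_neg ((push B.ι).f n).hom y).trans (congrArg (- ·) hy)⟩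
  | add a b ha hb =>
    obtain ⟨A, hA, h⟩ := ha
    obtain ⟨A', hA', h'⟩ := hb
    refine ⟨⨆ i : Fin 2, ![A, A'] i, (SSet.finite_iSup_iff _).2 (by
      intro i; fin_cases i <;> assumption), fun B hB => ?_⟩
    obtain ⟨y, hy⟩ := h B ((le_iSup ![A, A'] 0).trans hB)
    obtain ⟨y', hy'⟩ := h' B ((le_iSup ![A, A'] 1).trans hB)
    exact ⟨y + y', (map_add ((push B.ι).f n).hom y y').trans (congrArg₂ (· + ·) hy hy')⟩

lemma homotopic_push {S T : SSet.{u}} {f g : S ⟶ T} (H : SSet.Homotopy f g) {i j k : ℕ}
    (hi : (ComplexShape.down ℕ).prev j = i) (hk : (ComplexShape.down ℕ).next j = k)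
    (x : (CS S).X j) (hx : (CS S).d j k x = 0) :
    ∃ b : (CS T).X i, (push f).f j x = (push g).f j x + (CS T).d i j b :=
  ⟨_, Groth.AbFill.homotopy_apply
    ((H.toSimplicialObjectHomotopy.whiskerRight AddCommGrpCat.free).toChainHomotopy) hi hk x hx⟩

variable {C : Type u} [SmallCategory C]

/-- Presheaves of free chains. -/
noncomputable abbrev CP (X : SimplicialObject (Cᵒᵖ ⥤ Type u)) :
    ChainComplex (Cᵒᵖ ⥤ AddCommGrpCat.{u}) ℕ :=
  (alternatingFaceMapComplex _).obj
    (X ⋙ (Functor.whiskeringRight Cᵒᵖ (Type u) AddCommGrpCat.{u}).obj AddCommGrpCat.free)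

/-- The induced map. -/
noncomputable abbrev pushP {X Y : SimplicialObject (Cᵒᵖ ⥤ Type u)} (v : X ⟶ Y) : CP X ⟶ CP Y :=
  (alternatingFaceMapComplex _).map (Functor.whiskerRight v
    ((Functor.whiskeringRight Cᵒᵖ (Type u) AddCommGrpCat.{u}).obj AddCommGrpCat.free))

lemma d_app (X : SimplicialObject (Cᵒᵖ ⥤ Type u)) (i j : ℕ) (W : C) :
    ((CP X).d i j).app (op W) = (CS (sec X W)).d i j := by
  by_cases h : j + 1 = i
  · subst h
    simp only [alternatingFaceMapComplex_obj_d, AlternatingFaceMapComplex.objD, NatTrans.app_sum]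
    rfl
  · rw [(CP X).shape _ _ h, (CS (sec X W)).shape _ _ h]
    rfl

variable {J : GrothendieckTopology C} {K L : SimplicialObject (Cᵒᵖ ⥤ Type u)} {v : K ⟶ L}

theorem isLocallyBijective_homology (hv : IsLocTriv v J) (j : ℕ) :
    Presheaf.IsLocallyInjective J (HomologicalComplex.homologyMap (pushP v) j) ∧
      Presheaf.IsLocallySurjective J (HomologicalComplex.homologyMap (pushP v) j) := by
  refine LocalHomology.isLocallyBijective (pushP v) (i := j + 1) (ChainComplex.prev ℕ j) rfl ?_ ?_
  · intro W x hx y hy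
    obtain ⟨A, hA, hA'⟩ := exists_support (S := sec K W) x
    obtain ⟨B₀, hB₀, hB₀'⟩ := exists_support (S := sec L W) y
    let fA := (A.ι ≫ secMap v W)
    let B : (sec L W).Subcomplex := ⨆ i : Fin 2, ![B₀, SSet.Subcomplex.range fA] i
    haveI : SSet.Finite B := (SSet.finite_iSup_iff _).2 (by
      intro i; fin_cases i
      · exact hB₀
      · exact SSet.finite_range fA)
    obtain ⟨xt, hxt⟩ := hA' A le_rfl
    obtain ⟨yt, hyt⟩ := hB₀' B (le_iSup ![B₀, SSet.Subcomplex.range fA] 0)
    let vA : (A : SSet.{u}) ⟶ B :=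
      SSet.Subcomplex.lift fA (le_iSup ![B₀, SSet.Subcomplex.range fA] 1)
    have hvA : vA ≫ B.ι = fA := rfl
    have hd : (CS B).d (j + 1) j yt = (push vA).f j xt := by
      apply push_injective B.ι j
      refine ((ConcreteCategory.congr_hom ((push B.ι).comm (j + 1) j) yt).symm).trans ?_
      rw [ConcreteCategory.comp_apply, hyt, ← d_app]
      refine hy.trans ?_
      rw [← push_comp, hvA, push_comp, hxt]
      rfl
    have hxc : (CS A).d j ((ComplexShape.down ℕ).next j) xt = 0 := by
      apply push_injective A.ι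
      rw [map_zero]
      refine ((ConcreteCategory.congr_hom ((push A.ι).comm j _) xt).symm).trans ?_
      rw [ConcreteCategory.comp_apply, hxt, ← d_app]
      exact hx
    obtain ⟨R, hR, hR'⟩ := exists_lift hv B.ι
    let T : Sieve W :=
      { arrows := fun V g => ∃ a : ((CP K).X (j + 1)).obj (op V),
          ((CP K).d (j + 1) j).app (op V) a = ((CP K).X j).map g.op x
        downward_closed := by
          rintro V V' g ⟨a, ha⟩ h
          refine ⟨((CP K).X (j + 1)).map h.op a, ?_⟩
          rw [NatTrans.naturality_apply, ha, op_comp, Functor.map_comp, ConcreteCategory.comp_apply] }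
    refine ⟨T, J.transitive hR T fun V g hg => ?_, fun V g hg => hg⟩
    obtain ⟨s, hs⟩ := hR' g hg
    obtain ⟨R', hR₁, hR₂⟩ := exists_homotopy hv (A.ι ≫ res K g) (vA ≫ s) (by
      rw [Category.assoc, Category.assoc, res_secMap, hs, ← Category.assoc, ← Category.assoc, hvA])
    refine J.superset_covering ?_ hR₁
    intro V' h hh
    obtain ⟨H⟩ := hR₂ h hh
    obtain ⟨b, hb⟩ := homotopic_push H (ChainComplex.prev ℕ j) rfl xt hxc
    refine ⟨(push (s ≫ res K h)).f (j + 1) yt + b, ?_⟩
    rw [d_app]
    refine (map_add ((CS (sec K V')).d (j + 1) j).hom _ _).trans ?_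
    have e1 : (CS (sec K V')).d (j + 1) j ((push (s ≫ res K h)).f (j + 1) yt) =
        (push ((vA ≫ s) ≫ res K h)).f j xt := by
      refine (ConcreteCategory.congr_hom ((push (s ≫ res K h)).comm (j + 1) j) yt).trans ?_
      rw [ConcreteCategory.comp_apply, hd, ← push_comp, Category.assoc]
    refine ((congrArg (fun t : (CS (sec K V')).X j => t + (CS (sec K V')).d (j + 1) j b) e1).trans
      hb.symm).trans ?_
    rw [push_comp, push_comp, hxt, op_comp, Functor.map_comp, ConcreteCategory.comp_apply]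
    rfl
  · intro W y hy
    obtain ⟨A, hA, hA'⟩ := exists_support (S := sec L W) y
    obtain ⟨yt, hyt⟩ := hA' A le_rfl
    have hyc : (CS A).d j ((ComplexShape.down ℕ).next j) yt = 0 := by
      apply push_injective A.ι
      rw [map_zero]
      refine ((ConcreteCategory.congr_hom ((push A.ι).comm j _) yt).symm).trans ?_
      rw [ConcreteCategory.comp_apply, hyt, ← d_app]
      exact hy
    obtain ⟨R, hR, hR'⟩ := exists_lift hv A.ι
    refine ⟨R, hR, fun V g hg => ?_⟩
    obtain ⟨s, hs⟩ := hR' g hg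
    refine ⟨(push s).f j yt, 0, ?_, ?_⟩
    · rw [d_app]
      refine (ConcreteCategory.congr_hom ((push s).comm j _) yt).trans ?_
      rw [ConcreteCategory.comp_apply, hyc, map_zero]
      rfl
    · rw [map_zero, add_zero, ← hyt]
      change (push (secMap v V)).f j ((push s).f j yt) = (push (res L g)).f j ((push A.ι).f j yt)
      rw [← push_comp, ← push_comp, hs]

end Groth.Agent.Lib.Cosk28.Chains
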