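import Groth.Agent.Lib.Cosk28.Chains
import Groth.Agent.Lib.Cosk.Change
import Groth.Agent.Lib.Cosk.TrivFib

/-!
# Coskeletal local trivial fibrations
-/

universe u v w

open CategoryTheory Limits Opposite Simplicial

namespace Groth.Agent.Lib.Cosk28.FromCosk

open LocalTriv

theorem isCoskeletal_comp {D : Type v} [Category.{w} D] [HasFiniteLimits D] {E : Type*}
    [Category E] (U : SimplicialObject D) (G : D ⥤ E) [PreservesLimitsOfSize.{0, 0} G] (n : ℕ)
    [U.IsCoskeletal n] : SimplicialObject.IsCoskeletal (U ⋙ G) n := by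
  refine ⟨?_⟩
  let E := Functor.RightExtension.mk (U ⋙ G)
    (𝟙 ((SimplexCategory.Truncated.inclusion n).op ⋙ U ⋙ G))
  have hE : E.IsPointwiseRightKanExtension := fun Y =>
    IsLimit.ofIsoLimit (isLimitOfPreserves G (Groth.Cosk.pointwise U n Y))
      (Cone.ext (Iso.refl _) fun z => by
        change G.map (U.map z.hom ≫ 𝟙 _) = 𝟙 _ ≫ G.map (U.map z.hom) ≫ 𝟙 _
        simp)
  exact hE.isRightKanExtension

open SSet (stdSimplex)

variable {n m : ℕ} {U V : SSet.{u}} {f : V ⟶ U} {x : U.obj (op ⦋m⦌)}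
  {t : ((∂Δ[m] : (Δ[m] : SSet.{u}).Subcomplex) : SSet.{u}) ⟶ V}

theorem exists_good (h1 : ∀ i : ℕ, i < n → Function.Bijective (f.app (op ⦋i⦌)))
    (ht : ∀ (k : ℕ) (α : (⦋k⦌ : SimplexCategory) ⟶ ⦋m⦌)
      (hα : stdSimplex.objEquiv.symm α ∈ (∂Δ[m] : (Δ[m] : SSet.{u}).Subcomplex).obj (op ⦋k⦌)),
      f.app _ (t.app _ ⟨_, hα⟩) = U.map α.op x)
    (h2 : ∀ α : (⦋n⦌ : SimplexCategory) ⟶ ⦋m⦌, ∃ y, f.app _ y = U.map α.op x)
    {k : ℕ} (hk : k ≤ n) (α : (⦋k⦌ : SimplexCategory) ⟶ ⦋m⦌) :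
    ∃ y, Groth.Cosk.Good f x n t α y := by
  by_cases hlow : ∃ (r : ℕ) (p : (⦋k⦌ : SimplexCategory) ⟶ ⦋r⦌)
      (i : (⦋r⦌ : SimplexCategory) ⟶ ⦋m⦌), r < n ∧ p ≫ i = α
  · obtain ⟨r, p, i, hr, hp⟩ := hlow
    obtain ⟨r₀, e, s, hr₀k, hmono, he⟩ := Groth.Cosk.exists_split_fac α
    have hr₀ : r₀ < n := by
      have : Mono ((s ≫ p) ≫ i) := by rw [Category.assoc, hp]; exact hmono
      have := mono_of_mono (s ≫ p) i
      exact (SimplexCategory.len_le_of_mono (s ≫ p)).trans_lt hr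
    obtain ⟨z₀, hz₀⟩ := (h1 r₀ hr₀).2 (U.map (s ≫ α).op x)
    refine ⟨V.map e.op z₀, ?_, fun hα => ?_, fun r p i z hr hp hz =>
      (Groth.Cosk.canonical h1 α p i z hr hp hz e s hr₀ he z₀ hz₀).symm⟩
    · rw [NatTrans.naturality_apply f, hz₀, ← types_comp_apply (U.map _) (U.map _),
        ← Functor.map_comp, ← op_comp, he]
    · have hs : stdSimplex.objEquiv.symm (s ≫ α) ∈
          (∂Δ[m] : (Δ[m] : SSet.{u}).Subcomplex).obj (op ⦋r₀⦌) :=
        (∂Δ[m] : (Δ[m] : SSet.{u}).Subcomplex).map s.op hα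
      have : z₀ = t.app _ ⟨_, hs⟩ := (h1 r₀ hr₀).1 (hz₀.trans (ht _ _ hs).symm)
      rw [this]
      refine (NatTrans.naturality_apply t e.op ⟨_, hs⟩).symm.trans (congrArg _ (Subtype.ext ?_))
      change stdSimplex.objEquiv.symm (e ≫ s ≫ α) = _
      rw [he]
  · have hk' : k = n := le_antisymm hk (not_lt.1 fun h => hlow ⟨k, 𝟙 _, α, h, Category.id_comp α⟩)
    by_cases hα : stdSimplex.objEquiv.symm α ∈ (∂Δ[m] : (Δ[m] : SSet.{u}).Subcomplex).obj (op ⦋k⦌)
    · exact ⟨t.app _ ⟨_, hα⟩, ht _ _ hα, fun _ => rfl,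
        fun r p i z hr hp _ => absurd ⟨r, p, i, hr, hp⟩ hlow⟩
    · subst hk'
      obtain ⟨y, hy⟩ := h2 α
      exact ⟨y, hy, fun h => absurd h hα, fun r p i z hr hp _ => absurd ⟨r, p, i, hr, hp⟩ hlow⟩

open Groth.Cosk in
theorem exists_lift_sq [SimplicialObject.IsCoskeletal U n] [SimplicialObject.IsCoskeletal V n]
    (h1 : ∀ i : ℕ, i < n → Function.Bijective (f.app (op ⦋i⦌))) (b : (Δ[m] : SSet.{u}) ⟶ U)
    (w : t ≫ f = (∂Δ[m]).ι ≫ b)
    (h2 : ∀ α : (⦋n⦌ : SimplexCategory) ⟶ ⦋m⦌,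
      ∃ y, f.app _ y = U.map α.op (SSet.yonedaEquiv b)) :
    ∃ Φ : (Δ[m] : SSet.{u}) ⟶ V, (∂Δ[m]).ι ≫ Φ = t ∧ Φ ≫ f = b := by
  let x : U.obj (op ⦋m⦌) := SSet.yonedaEquiv b
  have hb : ∀ (k : ℕ) (α : (⦋k⦌ : SimplexCategory) ⟶ ⦋m⦌),
      b.app (op ⦋k⦌) (stdSimplex.objEquiv.symm α) = U.map α.op x := fun k α => by
    have : stdSimplex.objEquiv.symm α =
        (Δ[m] : SSet.{u}).map α.op (stdSimplex.objEquiv.symm (𝟙 ⦋m⦌)) := by
      rw [stdSimplex.map_objEquiv_symm]; simp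
    rw [this, NatTrans.naturality_apply b]
    rfl
  have ht : ∀ (k : ℕ) (α : (⦋k⦌ : SimplexCategory) ⟶ ⦋m⦌)
      (hα : stdSimplex.objEquiv.symm α ∈ (∂Δ[m] : (Δ[m] : SSet.{u}).Subcomplex).obj (op ⦋k⦌)),
      f.app _ (t.app _ ⟨_, hα⟩) = U.map α.op x := fun k α hα => by
    rw [← hb]
    exact congrArg (fun φ => φ.app _ ⟨_, hα⟩) w
  choose G hG using fun (k : ℕ) (hk : k ≤ n) (α : (⦋k⦌ : SimplexCategory) ⟶ ⦋m⦌) =>
    FromCosk.exists_good (f := f) (x := x) h1 ht h2 hk α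
  have nat : ∀ (k l : ℕ) (hk : k ≤ n) (hl : l ≤ n) (θ : (⦋l⦌ : SimplexCategory) ⟶ ⦋k⦌)
      (α : (⦋k⦌ : SimplexCategory) ⟶ ⦋m⦌), G l hl (θ ≫ α) = V.map θ.op (G k hk α) := by
    intro k l hk hl θ α
    rcases eq_id_or_lt hk hl θ with h' | h' | ⟨rfl, rfl⟩ | ⟨r, p, q, hr, rfl⟩
    · exact (hG l hl (θ ≫ α)).2.2 k θ α _ h' rfl (hG k hk α).1
    · exact (low_uniq h1 h' α θ (hG k hk α).1 (hG l hl (θ ≫ α)).1).symm
    · simp
    · rw [op_comp, Functor.map_comp, types_comp_apply]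
      refine (hG l hl _).2.2 r p (q ≫ α) _ hr (Category.assoc _ _ _).symm ?_
      rw [NatTrans.naturality_apply f, (hG k hk α).1, op_comp, Functor.map_comp]
      rfl
  obtain ⟨Φ, hΦ⟩ := exists_hom (n := n) (U := V) (W := (Δ[m] : SSet.{u}))
    (fun k hk => ↾fun a => G k hk (stdSimplex.objEquiv a)) (fun k l hk hl θ => by
      ext a
      exact nat k l hk hl θ (stdSimplex.objEquiv a))
  refine ⟨Φ, ?_, ?_⟩
  · refine Groth.Cosk.hom_ext (n := n) fun k hk => ?_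
    ext ⟨a, ha⟩
    change Φ.app _ a = t.app _ ⟨a, ha⟩
    rw [hΦ k hk]
    obtain ⟨α, rfl⟩ := stdSimplex.objEquiv.symm.surjective a
    exact ((congrArg (G k hk) (Equiv.apply_symm_apply _ α)).trans ((hG k hk α).2.1 ha))
  · refine Groth.Cosk.hom_ext (n := n) fun k hk => ?_
    ext a
    change f.app _ (Φ.app _ a) = b.app _ a
    rw [hΦ k hk]
    obtain ⟨α, rfl⟩ := stdSimplex.objEquiv.symm.surjective a
    refine (congrArg (fun z => f.app _ (G k hk z)) (Equiv.apply_symm_apply _ α)).trans ?_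
    exact (hG k hk α).1.trans (hb k α).symm

variable {C : Type u} [SmallCategory C] {J : GrothendieckTopology C}
  {K L : SimplicialObject (Cᵒᵖ ⥤ Type u)} (v : K ⟶ L)

theorem isLocTriv (n : ℕ) [K.IsCoskeletal n] [L.IsCoskeletal n]
    (h1 : ∀ i : ℕ, i < n → IsIso (v.app (op ⦋i⦌)))
    (h2 : Presheaf.IsLocallySurjective J (v.app (op ⦋n⦌))) : IsLocTriv v J := by
  intro d W f b h
  classical
  haveI : ∀ W : C, SimplicialObject.IsCoskeletal (sec K W) n := fun W => isCoskeletal_comp K _ n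
  haveI : ∀ W : C, SimplicialObject.IsCoskeletal (sec L W) n := fun W => isCoskeletal_comp L _ n
  haveI : Fintype ((⦋n⦌ : SimplexCategory) ⟶ ⦋d⦌) := Fintype.ofFinite _
  let S : Sieve W := Finset.univ.inf fun α : (⦋n⦌ : SimplexCategory) ⟶ ⦋d⦌ =>
    Presheaf.imageSieve (v.app (op ⦋n⦌)) ((sec L W).map α.op (SSet.yonedaEquiv b))
  refine J.superset_covering (S := S) ?_
    (Finset.inf_induction (p := fun S => S ∈ J W) (J.top_mem W)
      (fun S hS S' hS' => J.intersection_covering hS hS')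
      fun α _ => Presheaf.imageSieve_mem J (U := op W) _ _)
  intro V g hg
  refine exists_lift_sq (n := n) (f := secMap v V) (fun i hi => ?_) (b ≫ res L g) ?_ fun α => ?_
  · have := h1 i hi
    exact (isIso_iff_bijective ((v.app (op ⦋i⦌)).app (op V))).1 inferInstance
  · rw [Category.assoc, res_secMap, ← Category.assoc, h, Category.assoc]
  · have hle : S ≤ Presheaf.imageSieve (v.app (op ⦋n⦌))
        ((sec L W).map α.op (SSet.yonedaEquiv b)) := Finset.inf_le (Finset.mem_univ α)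
    obtain ⟨y, hy⟩ := hle _ hg
    exact ⟨y, hy.trans (NatTrans.naturality_apply (res L g) α.op (SSet.yonedaEquiv b))⟩

theorem isLocallySurjective_app (hv : IsLocTriv v J) (p : SimplexCategoryᵒᵖ) :
    Presheaf.IsLocallySurjective J (v.app p) := by
  obtain ⟨⟨p⟩⟩ := p
  refine ⟨fun {W} s => ?_⟩
  obtain ⟨R, hR, hR'⟩ := exists_lift hv
    ((SSet.yonedaEquiv (X := sec L W) (n := ⦋p⦌)).symm s)
  refine J.superset_covering ?_ hR
  intro V g hg
  obtain ⟨F, hF⟩ := hR' g hg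
  refine ⟨SSet.yonedaEquiv F, ?_⟩
  have := congrArg SSet.yonedaEquiv hF
  rw [SSet.yonedaEquiv_comp, SSet.yonedaEquiv_comp, Equiv.apply_symm_apply] at this
  exact this

theorem isIso_homologyMap_free (hv : IsLocTriv v J) (i : ℕ) :
    IsIso (HomologicalComplex.homologyMap
      ((AlgebraicTopology.alternatingFaceMapComplex (Sheaf J AddCommGrpCat.{u})).map
        (Functor.whiskerRight v ((Functor.whiskeringRight Cᵒᵖ (Type u) AddCommGrpCat.{u}).obj
          AddCommGrpCat.free.{u} ⋙ presheafToSheaf J AddCommGrpCat.{u}))) i) := by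
  let f := v
  have h := Chains.isLocallyBijective_homology hv i
  have h' := LocalHomology.isIso_homologyMap_sheafify
    (Chains.pushP f) h
  let G := (Functor.whiskeringRight Cᵒᵖ (Type u) AddCommGrpCat.{u}).obj AddCommGrpCat.free.{u}
  let e := AlgebraicTopology.map_alternatingFaceMapComplex (presheafToSheaf J AddCommGrpCat.{u})
  have e' := Functor.congr_hom e.symm (Functor.whiskerRight f G)
  haveI h'' : IsIso ((HomologicalComplex.homologyFunctor _ (ComplexShape.down ℕ) i).map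
      (((presheafToSheaf J AddCommGrpCat.{u}).mapHomologicalComplex _).map
        (Chains.pushP f))) := h'
  change IsIso ((HomologicalComplex.homologyFunctor _ (ComplexShape.down ℕ) i).map
    (((SimplicialObject.whiskering _ _).obj (presheafToSheaf J AddCommGrpCat.{u}) ⋙
      AlgebraicTopology.alternatingFaceMapComplex (Sheaf J AddCommGrpCat.{u})).map
      (Functor.whiskerRight f G)))
  rw [e', Functor.map_comp, Functor.map_comp, eqToHom_map, eqToHom_map]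
  haveI : IsIso ((HomologicalComplex.homologyFunctor (Sheaf J AddCommGrpCat.{u}) (ComplexShape.down ℕ) i).map
      ((AlgebraicTopology.alternatingFaceMapComplex (Cᵒᵖ ⥤ AddCommGrpCat.{u}) ⋙
        (presheafToSheaf J AddCommGrpCat.{u}).mapHomologicalComplex (ComplexShape.down ℕ)).map
          (Functor.whiskerRight f G))) := h''
  infer_instance

end Groth.Agent.Lib.Cosk28.FromCosk
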