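import Groth.Agent.Lib.Cosk28.LocalHomology
import Groth.Agent.Lib.Cosk.HEquiv
import Mathlib.AlgebraicTopology.SimplicialSet.Skeleton
import Mathlib.AlgebraicTopology.SimplicialSet.FiniteProd
import Mathlib.AlgebraicTopology.SimplicialSet.Homotopy
import Mathlib.AlgebraicTopology.SimplicialObject.ChainHomotopy

/-!
# Local trivial fibrations of simplicial presheaves are local homology isomorphisms
-/

universe u

open CategoryTheory Limits Opposite Simplicial MonoidalCategory CartesianMonoidalCategory AlgebraicTopology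

namespace Groth.Agent.Lib.Cosk28.LocalTriv

open SSet.relativeCellComplexOfMono

variable {C : Type u} [SmallCategory C]

/-- The simplicial set of sections. -/
abbrev sec (K : SimplicialObject (Cᵒᵖ ⥤ Type u)) (W : C) : SSet.{u} :=
  K ⋙ (evaluation Cᵒᵖ (Type u)).obj (op W)

/-- Restriction. -/
def res (K : SimplicialObject (Cᵒᵖ ⥤ Type u)) {V W : C} (g : V ⟶ W) : sec K W ⟶ sec K V :=
  Functor.whiskerLeft K ((evaluation Cᵒᵖ (Type u)).map g.op)

variable {K L : SimplicialObject (Cᵒᵖ ⥤ Type u)} (v : K ⟶ L)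

/-- The map on sections. -/
def secMap (W : C) : sec K W ⟶ sec L W :=
  Functor.whiskerRight v ((evaluation Cᵒᵖ (Type u)).obj (op W))

lemma res_secMap {V W : C} (g : V ⟶ W) : res K g ≫ secMap v V = secMap v W ≫ res L g := by
  refine NatTrans.ext (funext fun m => ?_)
  exact ((v.app m).naturality g.op)

lemma res_comp (K : SimplicialObject (Cᵒᵖ ⥤ Type u)) {U V W : C} (h : U ⟶ V) (g : V ⟶ W) :
    res K (h ≫ g) = res K g ≫ res K h := by
  refine NatTrans.ext (funext fun m => ?_)
  exact (K.obj m).map_comp g.op h.op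

/-- Locally liftable squares. -/
def liftSieve {X Y : SSet.{u}} (i : X ⟶ Y) {W : C} (f : X ⟶ sec K W) (b : Y ⟶ sec L W) :
    Sieve W where
  arrows V g := ∃ F : Y ⟶ sec K V, i ≫ F = f ≫ res K g ∧ F ≫ secMap v V = b ≫ res L g
  downward_closed := by
    rintro V V' g ⟨F, hF, hF'⟩ h
    refine ⟨F ≫ res K h, by rw [← Category.assoc, hF, Category.assoc, res_comp], ?_⟩
    rw [Category.assoc, res_secMap, ← Category.assoc, hF', Category.assoc, res_comp]

variable (J : GrothendieckTopology C)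

/-- Local trivial fibrations. -/
def IsLocTriv : Prop :=
  ∀ (d : ℕ) (W : C) (f : (∂Δ[d] : SSet.{u}) ⟶ sec K W) (b : Δ[d] ⟶ sec L W),
    f ≫ secMap v W = (∂Δ[d]).ι ≫ b → liftSieve v (∂Δ[d]).ι f b ∈ J W

variable {v J}

/-- One skeletal step. -/
lemma liftSieve_step (hv : IsLocTriv v J) {X Y : SSet.{u}} (i : X ⟶ Y) [Y.Finite] (d : ℕ) {W : C}
    (f : (SSet.skeletonOfMono i d : SSet.{u}) ⟶ sec K W)
    (b : (SSet.skeletonOfMono i (d + 1) : SSet.{u}) ⟶ sec L W)
    (h : f ≫ secMap v W = r i d ≫ b) : liftSieve v (r i d) f b ∈ J W := by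
  classical
  have : Finite (Cell i d) := Finite.of_injective Cell.simplex fun a b h => Cell.ext h
  have : Fintype (Cell i d) := Fintype.ofFinite _
  let T : Cell i d → Sieve W := fun c =>
    liftSieve v (∂Δ[d]).ι (c.ιSigmaBoundary ≫ t i d ≫ f) (c.ιSigmaStdSimplex ≫ SSet.relativeCellComplexOfMono.b i d ≫ b)
  refine J.superset_covering (S := Finset.univ.inf T) ?_
    (Finset.inf_induction (p := fun S => S ∈ J W) (J.top_mem W)
      (fun S hS S' hS' => J.intersection_covering hS hS')
      fun c _ => hv d W _ _ (by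
        simp only [Category.assoc, h]
        rw [reassoc_of% (isPushout i d).w]
        rw [← Category.assoc, ← Category.assoc (∂Δ[d]).ι]
        exact congrArg (· ≫ _) c.ι_l))
  intro V g hg
  have hF : ∀ c : Cell i d, ∃ F : (Δ[d] : SSet.{u}) ⟶ sec K V,
      (∂Δ[d]).ι ≫ F = (c.ιSigmaBoundary ≫ t i d ≫ f) ≫ res K g ∧
      F ≫ secMap v V = (c.ιSigmaStdSimplex ≫ SSet.relativeCellComplexOfMono.b i d ≫ b) ≫ res L g := fun c => by
    have hle : Finset.univ.inf T ≤ T c := Finset.inf_le (Finset.mem_univ c)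
    exact hle _ hg
  choose F hF hF' using hF
  refine ⟨(isPushout i d).desc (f ≫ res K g) (Limits.Sigma.desc F) ?_,
    (isPushout i d).inl_desc _ _ _, ?_⟩
  · refine Limits.Sigma.hom_ext _ _ fun c => ?_
    rw [← Category.assoc (Limits.Sigma.ι _ c) (l i d)]
    rw [show Limits.Sigma.ι (fun _ : Cell i d => (∂Δ[d] : SSet.{u})) c ≫ l i d =
      (∂Δ[d]).ι ≫ c.ιSigmaStdSimplex from c.ι_l, Category.assoc, Limits.Sigma.ι_desc, hF c]
    simp only [Category.assoc]
  · apply (isPushout i d).hom_ext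
    · rw [(isPushout i d).inl_desc_assoc, Category.assoc, res_secMap, ← Category.assoc, h,
        Category.assoc]
    · rw [(isPushout i d).inr_desc_assoc]
      refine Limits.Sigma.hom_ext _ _ fun c => ?_
      rw [Limits.Sigma.ι_desc_assoc, hF' c]
      simp only [Category.assoc]

/-- Lifting along a monomorphism into a finite simplicial set. -/
theorem liftSieve_mono (hv : IsLocTriv v J) {X Y : SSet.{u}} (i : X ⟶ Y) [Mono i] [Y.Finite]
    {W : C} (f : X ⟶ sec K W) (b : Y ⟶ sec L W) (h : f ≫ secMap v W = i ≫ b) :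
    liftSieve v i f b ∈ J W := by
  let j : ∀ d, X ⟶ SSet.skeletonOfMono i d := fun d =>
    SSet.Subcomplex.toRange i ≫ SSet.Subcomplex.homOfLE (le_sup_left : SSet.Subcomplex.range i ≤
      SSet.Subcomplex.range i ⊔ Y.skeleton d)
  let β : ∀ d, (SSet.skeletonOfMono i d : SSet.{u}) ⟶ sec L W := fun d =>
    (SSet.skeletonOfMono i d).ι ≫ b
  have hjι : ∀ d, j d ≫ (SSet.skeletonOfMono i d).ι = i := fun d => rfl
  have key : ∀ d, liftSieve v (j d) f (β d) ∈ J W := by
    intro d
    induction d with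
    | zero =>
      have hle : SSet.skeletonOfMono i 0 ≤ SSet.Subcomplex.range i :=
        le_of_eq (SSet.skeletonOfMono_zero i)
      refine J.superset_covering ?_ (J.top_mem W)
      intro V g _
      let s : (SSet.skeletonOfMono i 0 : SSet.{u}) ⟶ X :=
        SSet.Subcomplex.homOfLE hle ≫ inv (SSet.Subcomplex.toRange i)
      have h1 : j 0 ≫ s = 𝟙 X := by
        simp only [j, s, Category.assoc]
        refine Eq.trans ?_ (IsIso.hom_inv_id (SSet.Subcomplex.toRange i))
        rfl
      have h2 : s ≫ i = (SSet.skeletonOfMono i 0).ι := by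
        simp only [s, Category.assoc]
        refine (congrArg (fun t => SSet.Subcomplex.homOfLE hle ≫ inv (SSet.Subcomplex.toRange i) ≫ t)
          (SSet.Subcomplex.toRange_ι i).symm).trans ?_
        simp only [IsIso.inv_hom_id_assoc]
        rfl
      refine ⟨s ≫ f ≫ res K g, by rw [reassoc_of% h1], ?_⟩
      simp only [Category.assoc, res_secMap]
      rw [reassoc_of% h, ← Category.assoc, h2]
      simp only [β, Category.assoc]
    | succ d ih =>
      refine J.transitive ih _ fun V g hg => ?_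
      obtain ⟨F, hF, hF'⟩ := hg
      refine J.superset_covering ?_ (liftSieve_step hv i d F (β (d + 1) ≫ res L g) (by
        rw [hF']; rfl))
      rintro V' h' ⟨F', hF₁, hF₂⟩
      refine ⟨F', ?_, ?_⟩
      · rw [show j (d + 1) = j d ≫ r i d from rfl, Category.assoc, hF₁, ← Category.assoc, hF,
          Category.assoc, res_comp]
      · rw [hF₂, Category.assoc, res_comp]
  obtain ⟨d, hd⟩ := Y.hasDimensionLT_of_finite
  have htop : (⊤ : Y.Subcomplex) ≤ SSet.skeletonOfMono i d := by
    rw [SSet.Subcomplex.le_iff_contains_nonDegenerate]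
    rintro n ⟨x, hx⟩ _
    have hn : n < d := by
      by_contra hn
      simp [Y.nonDegenerate_eq_empty_of_hasDimensionLT d n (by omega)] at hx
    exact SSet.skeleton_le_skeletonOfMono i d _ (Y.mem_skeleton x hn)
  refine J.superset_covering ?_ (key d)
  rintro V g ⟨F, hF, hF'⟩
  refine ⟨(SSet.Subcomplex.topIso Y).inv ≫ SSet.Subcomplex.homOfLE htop ≫ F, ?_, ?_⟩
  · rw [← hF]
    rfl
  · rw [Category.assoc, Category.assoc, hF']
    rfl

/-- Lifting out of the empty simplicial set. -/
lemma exists_lift (hv : IsLocTriv v J) {Y : SSet.{u}} [Y.Finite] {W : C} (b : Y ⟶ sec L W) :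
    ∃ R ∈ J W, ∀ ⦃V : C⦄ (g : V ⟶ W), Sieve.arrows R g →
      ∃ F : Y ⟶ sec K V, F ≫ secMap v V = b ≫ res L g := by
  refine ⟨_, liftSieve_mono hv (⊥ : Y.Subcomplex).ι (SSet.Subcomplex.isInitialBot.to _) b
    (SSet.Subcomplex.isInitialBot.hom_ext _ _), fun V g hg => ?_⟩
  obtain ⟨F, -, hF⟩ := hg
  exact ⟨F, hF⟩

section Cylinder

variable {X : SSet.{u}}

/-- The two ends of the cylinder. -/
def ends (X : SSet.{u}) : (X ⊗ Δ[1]).Subcomplex where
  obj l := {x | (∀ k, (SSet.stdSimplex.objEquiv x.2).toOrderHom k = 0) ∨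
      ∀ k, (SSet.stdSimplex.objEquiv x.2).toOrderHom k = 1}
  map {l l'} θ x hx := by
    rcases hx with h | h
    · exact Or.inl fun k => h _
    · exact Or.inr fun k => h _

lemma eq_ι₀ {l : SimplexCategoryᵒᵖ} (x : (X ⊗ Δ[1]).obj l)
    (h : ∀ k, (SSet.stdSimplex.objEquiv x.2).toOrderHom k = 0) :
    x = (SSet.ι₀ (X := X)).app l x.1 :=
  Prod.ext rfl (SSet.stdSimplex.objEquiv.injective (SimplexCategory.Hom.ext _ _
    (OrderHom.ext _ _ (funext fun k => h k))))

lemma eq_ι₁ {l : SimplexCategoryᵒᵖ} (x : (X ⊗ Δ[1]).obj l)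
    (h : ∀ k, (SSet.stdSimplex.objEquiv x.2).toOrderHom k = 1) :
    x = (SSet.ι₁ (X := X)).app l x.1 :=
  Prod.ext rfl (SSet.stdSimplex.objEquiv.injective (SimplexCategory.Hom.ext _ _
    (OrderHom.ext _ _ (funext fun k => h k))))

open Classical in
/-- Two maps give a map out of the ends. -/
noncomputable def endsDesc {Z : SSet.{u}} (f₀ f₁ : X ⟶ Z) : (ends X : SSet.{u}) ⟶ Z where
  app l := ↾fun x => if ∀ k, (SSet.stdSimplex.objEquiv x.1.2).toOrderHom k = 0 then
    f₀.app l x.1.1 else f₁.app l x.1.1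
  naturality l l' θ := ConcreteCategory.hom_ext _ _ fun x => by
    obtain ⟨x, hx⟩ := x
    change (if ∀ k, (SSet.stdSimplex.objEquiv ((X ⊗ Δ[1]).map θ x).2).toOrderHom k = 0 then
        f₀.app l' (X.map θ x.1) else f₁.app l' (X.map θ x.1)) =
      Z.map θ (if _ then _ else _)
    by_cases h : ∀ k, (SSet.stdSimplex.objEquiv x.2).toOrderHom k = 0
    · have h' : ∀ k, (SSet.stdSimplex.objEquiv ((X ⊗ Δ[1]).map θ x).2).toOrderHom k = 0 :=
        fun k => h _
      rw [if_pos h', if_pos h]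
      exact NatTrans.naturality_apply f₀ θ x.1
    · have h1 := hx.resolve_left h
      have h' : ¬ ∀ k, (SSet.stdSimplex.objEquiv ((X ⊗ Δ[1]).map θ x).2).toOrderHom k = 0 := by
        intro h0
        have e0 : (SSet.stdSimplex.objEquiv x.2).toOrderHom _ = (0 : Fin 2) := h0 0
        rw [h1] at e0
        exact absurd e0 (by decide)
      rw [if_neg h', if_neg h]
      exact NatTrans.naturality_apply f₁ θ x.1

/-- Two lifts of one map are locally homotopic. -/
lemma exists_homotopy (hv : IsLocTriv v J) [X.Finite] {W : C} (f₀ f₁ : X ⟶ sec K W)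
    (h : f₀ ≫ secMap v W = f₁ ≫ secMap v W) :
    ∃ R ∈ J W, ∀ ⦃V : C⦄ (g : V ⟶ W), Sieve.arrows R g →
      Nonempty (SSet.Homotopy (f₀ ≫ res K g) (f₁ ≫ res K g)) := by
  have hb : endsDesc f₀ f₁ ≫ secMap v W = (ends X).ι ≫ fst X Δ[1] ≫ f₀ ≫ secMap v W := by
    refine NatTrans.ext (funext fun l => ConcreteCategory.hom_ext _ _ fun x => ?_)
    change (secMap v W).app l (if _ then _ else _) = (secMap v W).app l (f₀.app l x.1.1)
    split_ifs
    · rfl
    · exact (ConcreteCategory.congr_hom (congr_app h l) x.1.1).symm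
  refine ⟨_, liftSieve_mono hv (ends X).ι (endsDesc f₀ f₁) _ hb, fun V g hg => ?_⟩
  obtain ⟨F, hF, -⟩ := hg
  have e₀ : SSet.ι₀ ≫ F = f₀ ≫ res K g := by
    refine NatTrans.ext (funext fun l => ConcreteCategory.hom_ext _ _ fun x => ?_)
    have h0 : ∀ k, (SSet.stdSimplex.objEquiv ((SSet.ι₀ (X := X)).app l x).2).toOrderHom k = 0 :=
      fun k => rfl
    refine (ConcreteCategory.congr_hom (congr_app hF l)
      ⟨(SSet.ι₀ (X := X)).app l x, Or.inl h0⟩).trans ?_
    change (res K g).app l (if _ then _ else _) = _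
    rw [if_pos h0]
    rfl
  have e₁ : SSet.ι₁ ≫ F = f₁ ≫ res K g := by
    refine NatTrans.ext (funext fun l => ConcreteCategory.hom_ext _ _ fun x => ?_)
    have h1 : ∀ k, (SSet.stdSimplex.objEquiv ((SSet.ι₁ (X := X)).app l x).2).toOrderHom k = 1 :=
      fun k => rfl
    refine (ConcreteCategory.congr_hom (congr_app hF l)
      ⟨(SSet.ι₁ (X := X)).app l x, Or.inr h1⟩).trans ?_
    change (res K g).app l (if _ then _ else _) = _
    rw [if_neg (fun h0 => absurd ((h1 0).symm.trans (h0 0)) (by decide))]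
    rfl
  exact ⟨{ h := F, h₀ := e₀, h₁ := e₁
           rel := by
            refine NatTrans.ext (funext fun l => ConcreteCategory.hom_ext _ _ fun x => ?_)
            exact x.1.2.elim }⟩

end Cylinder

end Groth.Agent.Lib.Cosk28.LocalTriv
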